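import Mathlib
import Cfsg.Agent.Lib.Transfer.CIT.PrimePowerSimple
import Cfsg.Agent.Lib.Grp.SuzIdent.CIT

/-!
Simple linear, plane and Suzuki groups with at most one composite element order.
-/

set_option autoImplicit false
set_option linter.style.haveILetI false
set_option maxHeartbeats 1000000

universe u

namespace Cfsg.Agent.Transfer.OneComposite

open Subgroup CIT

variable {G : Type u} [Group G] [Finite G]

/-- At most one element order is composite. -/
def One (G : Type u) [Group G] : Prop :=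
  {n : ℕ | n ∈ Set.range (orderOf : G → ℕ) ∧ 1 < n ∧ ¬ n.Prime}.Subsingleton

theorem One.prime_of_ne (h : One G) {c n : ℕ} (hc : ∃ g : G, orderOf g = c) (hc1 : 1 < c) (hcp : ¬ c.Prime)
    (hn : ∃ g : G, orderOf g = n) (hn1 : 1 < n) (hne : n ≠ c) : n.Prime := by
  by_contra hnp
  exact hne (h ⟨hn, hn1, hnp⟩ ⟨hc, hc1, hcp⟩)

theorem One.eq (h : One G) {a b : ℕ} (ha : ∃ g : G, orderOf g = a) (ha1 : 1 < a) (hap : ¬ a.Prime)
    (hb : ∃ g : G, orderOf g = b) (hb1 : 1 < b) (hbp : ¬ b.Prime) : a = b :=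
  h ⟨ha, ha1, hap⟩ ⟨hb, hb1, hbp⟩

/-- The linear groups in the list. -/
def ListedTwo (G : Type u) [Group G] : Prop :=
    (∃ (F : Type) (_ : Field F) (_ : Fintype F), (Fintype.card F = 5 ∨ Fintype.card F = 7 ∨ Fintype.card F = 8 ∨ Fintype.card F = 9 ∨
        Fintype.card F = 11 ∨ Fintype.card F = 13 ∨ Fintype.card F = 16) ∧ Nonempty (G ≃* Matrix.ProjectiveSpecialLinearGroup (Fin 2) F)) ∨
    (∃ (F : Type) (_ : Field F) (_ : Fintype F), ∃ n r s : ℕ, r.Prime ∧ s.Prime ∧ 3 ^ n - 1 = 2 * r ∧ 3 ^ n + 1 = 4 * s ∧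
        Fintype.card F = 3 ^ n ∧ Nonempty (G ≃* Matrix.ProjectiveSpecialLinearGroup (Fin 2) F)) ∨
    (∃ (F : Type) (_ : Field F) (_ : Fintype F), ∃ n r : ℕ, (2 ^ n - 1).Prime ∧ r.Prime ∧ 2 ^ n + 1 = 3 * r ∧
        Fintype.card F = 2 ^ n ∧ Nonempty (G ≃* Matrix.ProjectiveSpecialLinearGroup (Fin 2) F))

theorem three_pow_mod_eight (k : ℕ) : 3 ^ (2 * k) % 8 = 1 ∧ 3 ^ (2 * k + 1) % 8 = 3 := by
  constructor <;> simp [pow_succ, pow_mul, Nat.mul_mod, Nat.pow_mod]

theorem not_prime_of_dvd {a d : ℕ} (hd : d ∣ a) (h1 : 1 < d) (hlt : d < a) : ¬ a.Prime := fun hp =>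
  (hp.eq_one_or_self_of_dvd d hd).elim (by omega) (by omega)

theorem listed_of {K : Type} [i1 : Field K] [i2 : Fintype K]
    (e : G ≃* Matrix.ProjectiveSpecialLinearGroup (Fin 2) K)
    (h : Fintype.card K = 5 ∨ Fintype.card K = 7 ∨ Fintype.card K = 8 ∨ Fintype.card K = 9 ∨
      Fintype.card K = 11 ∨ Fintype.card K = 13 ∨ Fintype.card K = 16) : ListedTwo G :=
  Or.inl ⟨K, i1, i2, h, ⟨e⟩⟩

theorem five_case_aux {K : Type} [Field K] [Fintype K] (hK : Fintype.card K = 5)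
    (f : G ≃* ↥(alternatingGroup (Fin 5))) : ListedTwo G := by
  obtain ⟨f5⟩ := S0253.result (F := K) hK
  exact listed_of (f.trans f5.symm) (Or.inl hK)

theorem five_case (f : G ≃* ↥(alternatingGroup (Fin 5))) : ListedTwo G :=
  haveI : Fact (Nat.Prime 5) := ⟨Nat.prime_five⟩
  five_case_aux (K := ZMod 5) (ZMod.card 5) f

/-- The linear case. -/
theorem One.psl_two (h : One G) [IsSimpleGroup G] (hG : ¬ IsMulCommutative G)
    {F : Type} [Field F] [Fintype F] (e : G ≃* Matrix.ProjectiveSpecialLinearGroup (Fin 2) F) : ListedTwo G := by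
  classical
  have h4 := four_le_card_field hG e
  have hhalf := fun m hm => exists_orderOf_half (m := m) e h4 hm
  obtain ⟨p, hp⟩ := CharP.exists F
  haveI := hp
  obtain ⟨n, hpp, hn⟩ := FiniteField.card F p
  set q := Fintype.card F with hq
  by_cases hp2 : p = 2
  · subst hp2
    have hnpos := n.pos
    set N := (n : ℕ) with hN
    rcases (show N ≤ 2 ∨ N = 3 ∨ N = 4 ∨ 5 ≤ N by omega) with hN2 | hN2 | hN2 | hN5
    · have hq4 : q = 4 := by
        rcases (show N = 1 ∨ N = 2 by omega) with e1 | e1 <;> rw [e1] at hn <;> omega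
      obtain ⟨f⟩ := S0252.result (F := F) hq4
      exact five_case (e.trans f)
    · exact listed_of (e) (Or.inr (Or.inr (Or.inl (hn.trans (by rw [hN2]; norm_num)))))
    · exact listed_of (e) (Or.inr (Or.inr (Or.inr (Or.inr (Or.inr (Or.inr (hn.trans (by rw [hN2]; norm_num))))))))
    rw [hn] at hhalf
    have heven : 2 ∣ 2 ^ N := dvd_pow_self 2 (by omega)
    have h32 : 32 ≤ 2 ^ N := le_trans (by norm_num) (Nat.pow_le_pow_right (n := 2) two_pos hN5)
    have hg : Nat.gcd 2 (2 ^ N - 1) = 1 := (Nat.Prime.coprime_iff_not_dvd Nat.prime_two).2 (by omega)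
    simp only [hg, Nat.div_one] at hhalf
    obtain ⟨l, hl | hl⟩ := Nat.even_or_odd' N
    · -- both factors of `2 ^ N - 1` would give composite orders
      exfalso
      obtain ⟨a, b, hab, ha, hb3⟩ : ∃ a b : ℕ, 2 ^ N - 1 = a * b ∧ 7 ≤ a ∧ b = a + 2 := by
        have h8 : 8 ≤ 2 ^ l := le_trans (by norm_num) (Nat.pow_le_pow_right (n := 2) two_pos (show 3 ≤ l by omega))
        refine ⟨2 ^ l - 1, 2 ^ l + 1, ?_, by omega, by omega⟩
        rw [hl, two_mul, pow_add]
        have := Nat.sq_sub_sq (2 ^ l) 1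
        rw [one_pow, pow_two] at this
        rw [this, mul_comm]
      have h3 : 3 ∣ 2 ^ N - 1 := by
        rw [hl]
        have := (two_pow_mod_three l).1
        omega
      -- the orders `2 ^ N - 1` and one of `a`, `b` (or `9`) are composite and distinct
      have hc := hhalf _ (Or.inl dvd_rfl)
      have hcp : ¬ (2 ^ N - 1).Prime := not_prime_of_dvd h3 (by norm_num) (by omega)
      have hprime : ∀ d, d ∣ 2 ^ N - 1 → 1 < d → d < 2 ^ N - 1 → d.Prime := fun d hd h1 h2 =>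
        h.prime_of_ne hc (by omega) hcp (hhalf d (Or.inl hd)) h1 (by omega)
      have hlt : b < 2 ^ N - 1 := by rw [hab]; exact lt_mul_of_one_lt_left (by omega) (by omega)
      have hap := hprime a (hab ▸ dvd_mul_right a b) (by omega) (by omega)
      have hbp := hprime b (hab ▸ dvd_mul_left b a) (by omega) hlt
      rw [hab] at h3
      rcases Nat.prime_three.dvd_mul.1 h3 with hd | hd
      · have := (Nat.prime_dvd_prime_iff_eq Nat.prime_three hap).1 hd; omega
      · have := (Nat.prime_dvd_prime_iff_eq Nat.prime_three hbp).1 hd; omega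
    · have h3 : 3 ∣ 2 ^ N + 1 := by
        rw [hl]
        have := (two_pow_mod_three l).2
        omega
      obtain ⟨r, hr⟩ := h3
      have hc := hhalf _ (Or.inr dvd_rfl)
      have hcp : ¬ (2 ^ N + 1).Prime := not_prime_of_dvd ⟨r, hr⟩ (by norm_num) (by omega)
      refine Or.inr (Or.inr ⟨F, ‹Field F›, ‹Fintype F›, N, r, ?_, ?_, hr, hn, ?_⟩)
      · exact h.prime_of_ne hc (by omega) hcp (hhalf _ (Or.inl dvd_rfl)) (by omega) (by omega)
      · exact h.prime_of_ne hc (by omega) hcp (hhalf r (Or.inr (Dvd.intro_left 3 hr.symm))) (by omega) (by omega)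
      · exact ⟨e⟩
  -- odd characteristic
  have hqo : Odd q := hn ▸ (hpp.odd_of_ne_two hp2).pow
  obtain ⟨j, hj⟩ := hqo
  rcases (show q = 5 ∨ q = 7 ∨ q = 9 ∨ 11 ≤ q by omega) with h5 | h5 | h5 | h11
  · exact listed_of (e) (Or.inl h5)
  · exact listed_of (e) (Or.inr (Or.inl h5))
  · exact listed_of (e) (Or.inr (Or.inr (Or.inr (Or.inl h5))))
  have hg : Nat.gcd 2 (q - 1) = 2 := Nat.gcd_eq_left (by omega)
  simp only [hg] at hhalf
  obtain ⟨ev, od, hsum, hev, hevd, hodd⟩ : ∃ ev od : ℕ, ((ev = od + 1 ∧ q = ev + od) ∨ (od = ev + 1 ∧ q = ev + od)) ∧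
      2 ∣ ev ∧ (∀ m, m ∣ ev → ∃ g : G, orderOf g = m) ∧ (∀ m, m ∣ od → ∃ g : G, orderOf g = m) := by
    have e1 : (q - 1) / 2 = j := by omega
    have e2 : (q + 1) / 2 = j + 1 := by omega
    rw [e1, e2] at hhalf
    rcases Nat.even_or_odd j with he | ho
    · exact ⟨j, j + 1, Or.inr ⟨rfl, by omega⟩, he.two_dvd, fun m hm => hhalf m (Or.inl hm),
        fun m hm => hhalf m (Or.inr hm)⟩
    · exact ⟨j + 1, j, Or.inl ⟨rfl, by omega⟩, ho.add_one.two_dvd, fun m hm => hhalf m (Or.inr hm),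
        fun m hm => hhalf m (Or.inl hm)⟩
  obtain ⟨s, hs⟩ := hev
  have hc := hevd ev dvd_rfl
  have hcp : ¬ ev.Prime := not_prime_of_dvd ⟨s, hs⟩ (by norm_num) (by omega)
  have hsp : s.Prime := h.prime_of_ne hc (by omega) hcp (hevd s (Dvd.intro_left 2 hs.symm)) (by omega) (by omega)
  have hop : od.Prime := h.prime_of_ne hc (by omega) hcp (hodd od dvd_rfl) (by omega) (by omega)
  have hso : s % 2 = 1 := by
    rcases hsp.eq_two_or_odd with e1 | e1
    · omega
    · exact e1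
  by_cases hp3 : p = 3
  · subst hp3
    obtain ⟨l, hl | hl⟩ := Nat.even_or_odd' (n : ℕ)
    · exfalso
      have := (three_pow_mod_eight l).1
      rw [hl] at hn
      omega
    · have := (three_pow_mod_eight l).2
      rw [← hl] at this
      refine Or.inr (Or.inl ⟨F, ‹Field F›, ‹Fintype F›, n, od, s, hop, hsp, ?_, ?_, hn, ?_⟩)
      · omega
      · omega
      · exact ⟨e⟩
  · have h3q : q % 3 ≠ 0 := by
      intro e0
      have hd : 3 ∣ q := Nat.dvd_of_mod_eq_zero e0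
      rw [hn] at hd
      exact hp3 ((Nat.prime_dvd_prime_iff_eq Nat.prime_three hpp).1 (Nat.prime_three.dvd_of_dvd_pow hd)).symm
    have h3 : 3 ∣ s ∨ 3 ∣ od := by
      rcases (show s % 3 = 0 ∨ s % 3 = 1 ∨ s % 3 = 2 by omega) with e3 | e3 | e3
      · exact Or.inl (Nat.dvd_of_mod_eq_zero e3)
      all_goals
        refine Or.inr (Nat.dvd_of_mod_eq_zero ?_)
        obtain ⟨t, ht⟩ : ∃ t, s = 3 * t + s % 3 := ⟨s / 3, by omega⟩
        rw [e3] at ht
        rcases hsum with ⟨e1, e2⟩ | ⟨e1, e2⟩ <;> omega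
    rcases h3 with hd | hd
    · have h3s := (Nat.prime_dvd_prime_iff_eq Nat.prime_three hsp).1 hd
      refine listed_of (e) (?_)
      omega
    · have := (Nat.prime_dvd_prime_iff_eq Nat.prime_three hop).1 hd
      omega

theorem five_dvd_sq_add_one (m : ℕ) : 5 ∣ (2 ^ (2 * m + 1)) ^ 2 + 1 := by
  apply Nat.dvd_of_mod_eq_zero
  rw [← pow_mul, show (2 * m + 1) * 2 = 4 * m + 2 by ring, pow_add, pow_mul]
  simp [Nat.add_mod, Nat.mul_mod, Nat.pow_mod]

/-- The Suzuki case. -/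
theorem One.suzuki (h : One G) [IsSimpleGroup G] (h4 : ∃ g : G, orderOf g = 4) (hS : Cfsg.Lie.IsoSuzuki G) :
    ∃ (F : Type) (_ : Field F) (_ : Fintype F), Fintype.card F = 8 ∧ Nonempty (G ≃* ↥(Cfsg.Lie.Sz F 4)) := by
  obtain ⟨F, i1, i2, m, hm, hF, ⟨e⟩⟩ := hS
  suffices hm1 : m = 1 by
    subst hm1
    exact ⟨F, i1, i2, by rw [hF]; norm_num, ⟨e⟩⟩
  have hord : ∀ c ∈ ({2 ^ (2 * m + 1) + 2 ^ (m + 1) + 1, 2 ^ (2 * m + 1) - 2 ^ (m + 1) + 1} : Set ℕ),
      ∃ g : G, orderOf g = c := by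
    intro c hc
    obtain ⟨U, hUc, hU, -, -⟩ := S0333.result (F := F) hm hF c hc
    obtain ⟨u, hu⟩ := IsCyclic.exists_ofOrder_eq_natCard (α := U)
    rw [hU] at hu
    exact ⟨e.symm (Suz.szEquiv (F := F) (m := m) ⟨hm, hF⟩ (u : ↥(Cfsg.Sz F m))), by
      rw [MulEquiv.orderOf_eq, MulEquiv.orderOf_eq, orderOf_coe, hu]⟩
  obtain ⟨l, rfl⟩ : ∃ l, m = l + 1 := ⟨m - 1, by omega⟩
  obtain ⟨i, hi, hi1⟩ : ∃ i, i = 2 ^ l ∧ 1 ≤ i := ⟨_, rfl, Nat.one_le_two_pow⟩
  have hq : 2 ^ (2 * (l + 1) + 1) = 8 * i * i := by rw [hi]; ring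
  have hr : 2 ^ (l + 1 + 1) = 4 * i := by rw [hi]; ring
  have h5 := five_dvd_sq_add_one (l + 1)
  rw [hq] at h5 hord
  rw [hr] at hord
  have hle : 4 * i ≤ 8 * i * i := by nlinarith
  have hprod : (8 * i * i + 4 * i + 1) * (8 * i * i - 4 * i + 1) = (8 * i * i) ^ 2 + 1 := by
    zify [hle]; ring
  rw [← hprod] at h5
  have h8 : 8 * i ≤ 8 * i * i := by nlinarith
  have hpr : ∀ c, (∃ g : G, orderOf g = c) → 1 < c → c ≠ 4 → c.Prime := fun c hc h1 h2 =>
    h.prime_of_ne h4 (by norm_num) (by norm_num) hc h1 h2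
  have h55 : Nat.Prime 5 := by norm_num
  rcases h55.dvd_mul.1 h5 with hd | hd
  · have hp := hpr _ (hord _ (Or.inl rfl)) (by omega) (by omega)
    have := (Nat.prime_dvd_prime_iff_eq h55 hp).1 hd
    omega
  · have hp := hpr _ (hord _ (Or.inr rfl)) (by omega) (by omega)
    have := (Nat.prime_dvd_prime_iff_eq h55 hp).1 hd
    have h6 : i = 1 := by
      rcases Nat.lt_or_ge i 2 with hlt | hge
      · omega
      · have : 16 * i ≤ 8 * i * i := by nlinarith
        omega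
    rw [h6] at hi
    rcases l with _ | l
    · rfl
    · rw [pow_succ] at hi; omega

end Cfsg.Agent.Transfer.OneComposite
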