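import Mathlib
import Cfsg.Agent.Lib.Transfer.OneComposite.Arith
import Cfsg.Agent.Lib.Transfer.FiveOrbits.Main

/-!
Reduction of simple groups with at most one composite element order.
-/

set_option autoImplicit false
set_option linter.style.haveILetI false
set_option maxHeartbeats 1000000

universe u

namespace Cfsg.Agent.Transfer.OneComposite

open Subgroup CIT

variable {G : Type u} [Group G] [Finite G]

/-- The CIT case. -/
theorem One.cit_case (h : One G) [IsSimpleGroup G] (hG : ¬ IsMulCommutative G) (hc : IsCIT G) :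
    ListedTwo G ∨
    (∃ (F : Type) (_ : Field F) (_ : Fintype F), Fintype.card F = 4 ∧
      Nonempty (G ≃* Matrix.ProjectiveSpecialLinearGroup (Fin 3) F)) ∨
    (∃ (F : Type) (_ : Field F) (_ : Fintype F), Fintype.card F = 8 ∧ Nonempty (G ≃* ↥(Cfsg.Lie.Sz F 4))) := by
  rcases hc.classification_iso hG with ⟨F, i1, i2, -, ⟨e⟩⟩ | hL | hS
  · exact Or.inl (h.psl_two hG e)
  · exact Or.inr (Or.inl hL)
  · have h2 : 2 ∣ Nat.card G := by
      by_contra hodd
      haveI : Group.IsSolvable G := S0205.result (Nat.not_even_iff_odd.1 fun he => hodd he.two_dvd)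
      exact FiveOrbits.not_solvable hG ‹_›
    rcases FiveOrbits.exists_four_or_psl hG hc h2 with h4 | ⟨F, i1, i2, ⟨e⟩⟩
    · exact Or.inr (Or.inr (h.suzuki h4 hS))
    · exact Or.inl (h.psl_two hG e)

/-- Outside the CIT case the composite order is `2 r`. -/
theorem One.non_cit (h : One G) (hc : ¬ IsCIT G) :
    ∃ r : ℕ, r.Prime ∧ r ≠ 2 ∧ (∃ g : G, orderOf g = 2 * r) ∧
      ∀ g : G, (2 ∣ orderOf g ∨ r ∣ orderOf g) → orderOf g ∣ 2 * r := by
  simp only [IsCIT, not_forall] at hc
  obtain ⟨t, ht, hnp⟩ := hc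
  obtain ⟨r, hr, hr2, hrd⟩ : ∃ r : ℕ, r.Prime ∧ r ≠ 2 ∧ r ∣ Nat.card (centralizer ({t} : Set G)) := by
    by_contra hall
    push Not at hall
    refine hnp (IsPGroup.of_card (n := (Nat.card (centralizer ({t} : Set G))).primeFactorsList.length) ?_)
    refine Nat.eq_prime_pow_of_unique_prime_dvd Nat.card_pos.ne' fun {l} hl hd => ?_
    by_contra hne
    exact hall l hl hne hd
  haveI := Fact.mk hr
  obtain ⟨y, hy⟩ := exists_prime_orderOf_dvd_card' r hrd
  have hyo : orderOf (y : G) = r := by rw [orderOf_coe]; exact hy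
  have h2r : orderOf (t * (y : G)) = 2 * r := by
    rw [(FiveOrbits.cen_comm y.2).symm.orderOf_mul_eq_mul_orderOf_of_coprime
      (by rw [ht, hyo]; exact (Nat.coprime_primes Nat.prime_two hr).2 hr2.symm), ht, hyo]
  refine ⟨r, hr, hr2, ⟨_, h2r⟩, fun g hg => ?_⟩
  have hr1 := hr.one_lt
  rcases eq_or_ne (orderOf g) (2 * r) with e | e
  · rw [e]
  have h1 : 1 < orderOf g := by
    rcases Nat.lt_or_ge 1 (orderOf g) with h1 | h1
    · exact h1
    · have := orderOf_pos g
      rw [show orderOf g = 1 by omega] at hg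
      rcases hg with hd | hd <;> have := Nat.le_of_dvd one_pos hd <;> omega
  have hp := h.prime_of_ne ⟨_, h2r⟩ (by omega) (Nat.not_prime_mul (by norm_num) hr.ne_one) ⟨g, rfl⟩ h1 e
  rcases hg with hd | hd
  · rw [← (Nat.prime_dvd_prime_iff_eq Nat.prime_two hp).1 hd]; exact dvd_mul_right 2 r
  · rw [← (Nat.prime_dvd_prime_iff_eq hr hp).1 hd]; exact dvd_mul_left r 2

end Cfsg.Agent.Transfer.OneComposite
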